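import Cfsg.Agent.H5.S4.W4
import Cfsg.Agent.H3.Icosian

/-! The core `L₂(7)` does not give a maximal subgroup of `Sp₄(7)`. -/

set_option autoImplicit false
set_option linter.unusedSimpArgs false
set_option linter.unusedSectionVars false
set_option linter.unusedVariables false

namespace Cfsg.Agent.H5.S4

open Module Cfsg.Agent.H6 Cfsg.Agent.H9.Sp Equiv Finset

attribute [-simp] LinearEquiv.coe_inv Submodule.mem_map_equiv

/-- `SL₂(7)` -/
@[ext] structure S7 where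
  (a b c d : ZMod 7)
  det : a * d - b * c = 1
deriving DecidableEq

namespace S7

instance : Mul S7 := ⟨fun x y => ⟨x.a * y.a + x.b * y.c, x.a * y.b + x.b * y.d, x.c * y.a + x.d * y.c,
  x.c * y.b + x.d * y.d, by linear_combination (y.a * y.d - y.b * y.c) * x.det + y.det⟩⟩

instance : One S7 := ⟨⟨1, 0, 0, 1, by decide⟩⟩

instance : Inv S7 := ⟨fun x => ⟨x.d, -x.b, -x.c, x.a, by linear_combination x.det⟩⟩

theorem mul_def (x y : S7) : x * y = ⟨x.a * y.a + x.b * y.c, x.a * y.b + x.b * y.d, x.c * y.a + x.d * y.c,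
  x.c * y.b + x.d * y.d, (x * y).det⟩ := rfl

theorem one_def : (1 : S7) = ⟨1, 0, 0, 1, by decide⟩ := rfl

instance : Group S7 := Group.ofLeftAxioms (fun x y z => by ext <;> simp only [mul_def] <;> ring)
  (fun x => by ext <;> simp only [mul_def, one_def] <;> ring) fun x => by
    ext <;> simp only [mul_def, one_def, show x⁻¹ = ⟨x.d, -x.b, -x.c, x.a, x⁻¹.det⟩ from rfl] <;>
      first | ring1 | linear_combination x.det

/-- equality up to sign -/
def E (x y : S7) : Prop := x = y ∨ x = ⟨-1, 0, 0, -1, by decide⟩ * y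

instance (x y : S7) : Decidable (E x y) := inferInstanceAs (Decidable (_ ∨ _))

/-- a transvection -/
def u : S7 := ⟨1, 1, 0, 1, by decide⟩

/-- an element of order four -/
def t : S7 := ⟨0, -1, 1, 0, by decide⟩

/-- the generators -/
def g : Fin 2 → S7 := ![u, t]

/-- a conjugate of `t` -/
def i (w : List (Fin 2)) : S7 := ev g w * t * (ev g w)⁻¹

theorem gen (x : S7) : ∃ w, ev g w = x := by
  have hu : u ∈ wd g := ⟨[0], mul_one _⟩
  have ht : t ∈ wd g := ⟨[1], mul_one _⟩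
  have h1 : ∀ a b c d h, c ≠ 0 → (⟨a, b, c, d, h⟩ : S7) =
      u ^ ((a - 1) * c ^ 5).val * t * u ^ (-c).val * t ^ 3 * u ^ ((d - 1) * c ^ 5).val := by decide +kernel
  have h2 : ∀ x : S7, x.c ≠ 0 → x ∈ wd g := fun ⟨a, b, c, d, h⟩ hc => by
    rw [h1 a b c d h hc]
    exact mul_mem (mul_mem (mul_mem (mul_mem (pow_mem hu _) ht) (pow_mem hu _)) (pow_mem ht _)) (pow_mem hu _)
  by_cases hc : x.c = 0
  · have := mul_mem (h2 (x * t) fun e => by
      have h3 := x.det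
      rw [hc, show x.d = 0 by simpa [mul_def, t] using e] at h3
      exact absurd h3 (by simp; decide)) (pow_mem ht 3)
    rwa [mul_assoc, show t * t ^ 3 = 1 by decide +kernel, mul_one] at this
  · exact h2 x hc

theorem seven (x : S7) : E (x ^ 7) 1 → E x 1 ∨ ∃ w ∈ [[],[1,0,0,0,0,1,0,0,1],[1,0,0,1,0,0,0,0,1],[1,0,1],[1],
    [1,0],[1,0,0,0,0,1,0,0],[1,0,0,1,0,0,0,0],[1,0,0],[1,0,0,0],[1,0,0,0,0],[1,0,0,0,0,1,0],[1,0,0,0,0,0],
    [1,0,0,0,0,1,0,1],[1,0,0,1],[1,0,0,1,0],[1,0,0,0,1],[1,0,0,0,0,1],[1,0,0,1,0,0,0],[1,0,0,1,0,0,0,1],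
    [1,0,0,0,1,0,1],[1,0,0,0,1,0,0],[1,0,0,0,1,0],[1,0,0,1,0,0]],
      E (ev g w * x * (ev g w)⁻¹) u ∨ E (ev g w * x * (ev g w)⁻¹) u⁻¹ := by
  obtain ⟨a, b, c, d, h⟩ := x
  revert a b c d h
  decide +kernel

theorem two (x : S7) : E (x ^ 2) 1 → E ((x * u) ^ 3) 1 → E x 1 ∨ ∃ j : Fin 7, E (u ^ j.1 * x * (u ^ j.1)⁻¹) t := by
  obtain ⟨a, b, c, d, h⟩ := x
  revert a b c d h
  decide +kernel

/-- the action on the seven points -/
def π : Fin 2 → Perm (Fin 7) := ![List.formPerm [0, 1, 2, 3, 4, 5, 6], swap 1 5 * swap 3 4]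

/-- coset representatives -/
def cr (i j : Fin 7) : S7 := u ^ i.1 * ev g (![[],[1,0,1,0,0,0,0],[0,0,0,0,1,0,0],[0,0,0,1,0],[0,0,0,0,0],
  [0,1,0,0,0,0],[0,1,0,0,0,1,0,0]] (j - i))

end S7

variable {F V W : Type*} [Field F] [AddCommGroup V] [Module F V] [FiniteDimensional F V]
  [AddCommGroup W] [Module F W] [FiniteDimensional F W]
  {B : V →ₗ[F] V →ₗ[F] F} {Q : QuadraticForm F W} {ι : W →ₗ[F] End F V}

theorem Ctx.not_three {Γ : Type*} [Group Γ] {κ : Γ →* (W ≃ₗ[F] W)} {H : Subgroup (W ≃ₗ[F] W)}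
    (C : Ctx B Q ι H κ.range) {g : Fin 2 → Γ} (gen : ∀ γ, ∃ w, ev g w = γ) {f δ : Γ} (w : Fin 2 → List (Fin 2))
    (h : ∀ a, κ (g a) = κ (ev ![f, δ * f * δ⁻¹] (w a))) : ¬ Three (κ f) := fun t => by
  obtain ⟨x, x0, a0, a1⟩ := t.common C.cl.dim (t.conj' δ)
  refine x0 (C.nofix x ?_)
  rintro _ ⟨γ, rfl⟩
  obtain ⟨w', rfl⟩ := gen γ
  exact ev_fix (fun a => h a ▸ ev_fix (Fin.forall_fin_two.2 ⟨a0, a1⟩) _) _

open S7 in
theorem no7 (h7 : (7 : F) = 0) (hsq : ¬ IsSquare (-1 : F)) {κ : S7 →* (W ≃ₗ[F] W)} {H : Subgroup (W ≃ₗ[F] W)}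
    (C : Ctx B Q ι H κ.range) (hκ : ∀ x y, κ x = κ y ↔ E x y) : False := by
  have h1 : ∀ x, κ x = 1 ↔ E x 1 := fun x => by rw [← hκ, map_one]
  let z := i [0,0,0,1,0,0,0,0]
  have iv : ∀ w, ¬ Plus B ι (κ (i w)) ∧ Three (κ (i w)) := fun w => C.invol (s := t) (g := ev g [0,0,0,1,0,0,0,0])
    (g' := ev g [0,0,1,0]) (by rw [Ne, h1]; decide +kernel) (by rw [h1]; decide +kernel)
    (by rw [hκ]; decide +kernel) _
  have mm : ∀ x y x' y', E (x * y) (x' * y') → κ x * κ y = κ x' * κ y' := fun x y x' y' h => by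
    rw [← map_mul, ← map_mul, (hκ _ _).2 h]
  have sq : ∀ w, κ (i w) * κ (i w) = 1 := fun w => by
    rw [← map_mul, i, conj_mul, map_mul, map_mul, (h1 (t * t)).2 (by decide +kernel)]; simp
  obtain ⟨r, r0, r1, r2, r3⟩ := exists_root C.cl (C.κS z) (C.κS (i [])) (C.κS (i [0])) (sq _) (sq _) (sq _)
    (iv _).1 (iv _).1 (iv _).1 (by rw [← map_mul, (hκ _ (i [1,0])).2 (by decide +kernel)]; exact (iv _).1)
    (mm _ _ _ _ (by decide +kernel)) (mm _ _ _ _ (by decide +kernel))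
    (by rw [← map_mul κ (i [])]; exact mm _ _ _ _ (by decide +kernel))
    (by rw [← map_mul]; exact C.not_three gen (δ := ev g [0,1,0,0,1]) ![[0,1,0],[1,0,1,0,0,1]] fun a =>
      (hκ _ _).2 (by revert a; decide +kernel))
  have hx := ev_fix (g := ![z, i []]) (Fin.forall_fin_two.2 ⟨r1, r2⟩)
  obtain ⟨R, hR⟩ : ∃ R : Fin 7 × Fin 7 → W, ∀ i j, R (i, j) = if i = j then 0 else κ (cr i j) r :=
    ⟨fun p => if p.1 = p.2 then 0 else κ (cr p.1 p.2) r, fun _ _ => rfl⟩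
  have act : ∀ w i j, κ (ev g w) (R (i, j)) = R (ev π w i, ev π w j) := fun w i j =>
    ev_act (π := π) (e := R) (fun a ⟨i, j⟩ => by
      have : i ≠ j → ∃ w ∈ [[],[0],[1],[0,1]], E (g a * cr i j) (cr (π a i) (π a j) * ev ![z, S7.i []] w) := by
        revert a i j; decide +kernel
      change _ = R (π a i, π a j)
      simp only [hR, EmbeddingLike.apply_eq_iff_eq]
      split_ifs with h
      · exact map_zero _
      · obtain ⟨w, -, e⟩ := this h
        rw [← Orth.mul_app, mm _ _ _ _ e, Orth.mul_app, hx]) w (i, j)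
  have anti : ∀ i j, R (j, i) = - R (i, j) := fun i j => by
    have : i ≠ j → ∃ w ∈ [[],[0],[1],[0,1]], E (cr j i) (cr i j * S7.i [0] * ev ![z, S7.i []] w) := by
      revert i j; decide +kernel
    rw [hR, hR]
    by_cases h : i = j
    · simp [h]
    · obtain ⟨w, -, e⟩ := this h
      simp [h, Ne.symm h, (hκ _ _).2 e, hx, r3]
  have tri : ∀ a b c, ev π [1] a = a ∧ ev π [1] b = c ∧ ev π [1] c = b ∧ ev π [0,0,1,0,0,0,0,0] a = c ∧
      ev π [0,0,1,0,0,0,0,0] b = b ∧ ev π [0,0,1,0,0,0,0,0] c = a → R (a, b) + R (b, c) + R (c, a) = 0 :=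
    fun a b c ⟨a1, a2, a3, a4, a5, a6⟩ => by_contra fun hy => C.not_three gen (δ := ev g [0,0,0])
      (f := ev g [1] * ev g [0,0,1,0,0,0,0,0]) ![[0,1],[1,0,1,1,0,1]] (fun a => (hκ _ _).2 (by
        revert a; decide +kernel)) (map_mul κ _ _ ▸ three_mul C.cl (C.κO _) (C.κO _)
      ((hκ (i []) (ev g [1])).2 (by decide +kernel) ▸ (iv _).2)
      ((hκ (i [0,0]) (ev g [0,0,1,0,0,0,0,0])).2 (by decide +kernel) ▸ (iv _).2) hy
      (by simp only [map_add, act, a1, a2, a3, anti c a, anti b c, anti a b]; abel)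
      (by simp only [map_add, act, a4, a5, a6, anti c a, anti b c, anti a b]; abel))
  have hE : ∀ i j, R (i, j) = R (i, 6) - R (j, 6) := fun i j => by
    have : i ≠ j → i ≠ 6 → j ≠ 6 → ∃ w ∈ [[0,1,0,0,0,1,0,0,1,0,0,1],[0],[0,1,0,0,1,0,0,0],[0,0,0,0,0,1,0,0],
      [0,0,1,0,0,0,0,1,0,0,0],[1,0,0,1,0,0,1,0,0],[0,0,0,1,0,0,0,1,0,1],[0,0,1,0,0,0,0,1,0,0,1],[0,0,0,1,0],
      [0,0,0,0,1,0,0,0,0],[0,1,0,0,0,1,0,0,0],[1,0,0,1],[0,1,0,0,0,0,0],[1,0,1,0,0,0,0,0],[0,0,1],[0,0,0],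
      [0,0,0,0,0,1,0,1],[0,0,0,0,1,0,0,1,0,0,0,1],[0,1,0,0,0],[1,0,1,0,0,0,0,1],[1,0,0,0],[0,1,0,0,0,0,1],
      [0,1,0,0,0,1,0,0,0,0,0],[0,0,0,0,0,1],[0,1,0,0,1,0,0,1],[0,0,1,0,0,1,0,0],[0,0,0,1,0,0,0,1],
      [0,0,0,0,0,1,0,0,1,0],[1,0,0,0,1,0],[0,0,0,0,1,0,0,1,0,0,0,0]],
      ev π w 0 = i ∧ ev π w 4 = j ∧ ev π w 3 = 6 ∨ ev π w 6 = i ∧ ev π w 1 = j ∧ ev π w 5 = 6 := by
      revert i j; decide +kernel
    by_cases h : i = j
    · simp [h, hR j j]
    by_cases hi : i = 6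
    · simp [hi, hR 6 6, anti j 6]
    by_cases hj : j = 6
    · simp [hj, hR 6 6]
    obtain ⟨w, -, e | e⟩ := this h hi hj
    · have := congrArg (κ (ev g w)) (tri 0 4 3 (by decide +kernel))
      simp only [map_add, act, e, anti i 6, map_zero] at this
      linear_combination (norm := module) this
    · have := congrArg (κ (ev g w)) (tri 6 1 5 (by decide +kernel))
      simp only [map_add, act, e, anti i 6, map_zero] at this
      linear_combination (norm := module) this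
  have hP : ∀ k ∈ κ.range, ∃ α : Perm (Fin 7), α ≠ swap 0 1 * swap 1 2 ∧
      ∀ i j, k (R (i, 6) - R (j, 6)) = R (α i, 6) - R (α j, 6) := by
    rintro _ ⟨γ, rfl⟩
    obtain ⟨w, rfl⟩ := gen γ
    refine ⟨ev π w, fun e => ?_, fun i j => by rw [← hE, ← hE, act]⟩
    exact absurd (e ▸ ev_mem (g := π) (keep (trip [11, 22, 44, 49, 69, 88, 98])) (by decide +kernel) w)
      (by decide +kernel)
  have gram : ∀ i j k l, Orth.B Q (R (i, 6) - R (j, 6)) (R (k, 6) - R (l, 6)) = (if i = k then Q r else 0) -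
      (if i = l then Q r else 0) - (if j = k then Q r else 0) + (if j = l then Q r else 0) := fun i j k l => by
    have : ∀ i j, Q (R (i, 6)) + Q (R (j, 6)) - Orth.B Q (R (i, 6)) (R (j, 6)) = Q r - if i = j then Q r else 0 :=
      fun i j => by
        rw [← Orth.Q_sub, ← hE, hR]
        split_ifs
        · simp
        · rw [C.κO, sub_zero]
    simp only [map_sub, LinearMap.sub_apply]
    linear_combination this i l + this j k - this i k - this j l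
  have rt : Rt Q (fun i => R (i, 6)) (Q r) := ⟨gram, fun h0 => r0 ((κ (cr 0 1)).injective (by
    have := C.nots (Set.range fun p : Fin 7 × Fin 7 => R (p.1, 6) - R (p.2, 6)) (Set.finite_range _) (by
      rintro k hk _ ⟨p, rfl⟩
      obtain ⟨α, -, e⟩ := hP k hk
      exact ⟨(_, _), (e _ _).symm⟩) (by
      rintro _ ⟨p, rfl⟩ _ ⟨q, rfl⟩
      simp only [gram, h0]; simp) _ ⟨(0, 1), rfl⟩
    simp only [← hE] at this
    simpa [hR] using this))⟩
  refine C.core7 h7 rt (fun k hk => ?_) hP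
  have hu : κ u ^ 7 = 1 := by rw [← map_pow, h1]; decide +kernel
  obtain ⟨x, hx⟩ := C.norm k hk _ ⟨u, rfl⟩
  obtain ⟨w, -, e⟩ := (seven x (by rw [← h1, map_pow, hx, conj_pow, hu]; simp)).resolve_left (by
    rw [← h1, hx, conj_eq_one_iff, h1]; decide +kernel)
  have hk1 := mul_mem (C.le ⟨ev g w, rfl⟩) hk
  have e1 : κ (ev g w) * k * κ u * (κ (ev g w) * k)⁻¹ = κ (ev g w * x * (ev g w)⁻¹) := by simp [hx, mul_assoc]
  rw [(hκ _ _).2 (e.resolve_right fun e => hsq (unip C.cl h7 (C.κS u) hu (x := R (0, 1)) (fun e => ?_)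
    (C.leS hk1) (by rw [e1, (hκ _ _).2 e, map_inv])))] at e1
  · obtain ⟨y, hy⟩ := C.norm _ hk1 _ ⟨t, rfl⟩
    obtain ⟨j, e2⟩ := (two y (by rw [← h1, map_pow, hy, conj_pow, ← map_pow, (h1 (t ^ 2)).2 (by decide +kernel)]; simp)
      (by rw [← h1, map_pow, map_mul, hy, ← e1, conj_mul, conj_pow, ← map_mul, ← map_pow,
        (h1 ((t * u) ^ 3)).2 (by decide +kernel)]; simp)).resolve_left (by rw [← h1, hy, conj_eq_one_iff, h1]; decide +kernel)
    have e3 := C.cent _ (mul_mem (C.le ⟨u ^ j.1, rfl⟩) hk1) (by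
      rintro _ ⟨γ, rfl⟩
      obtain ⟨w', rfl⟩ := gen γ
      refine (ev_mem ((Subgroup.centralizer {_}).comap κ) (Fin.forall_fin_two.2 ⟨?_, ?_⟩) w' :) _ rfl <;>
        rintro _ rfl
      · change _ * κ u = κ u * _
        rw [mul_assoc, mul_inv_eq_iff_eq_mul.1 e1, ← mul_assoc, ← mul_assoc (κ u), ← map_mul, ← map_mul,
          pow_mul_comm']
      · change _ * κ t = κ t * _
        rw [mul_assoc, mul_inv_eq_iff_eq_mul.1 hy.symm, ← mul_assoc, ← mul_assoc (κ t), ← (hκ _ _).2 e2]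
        simp)
    exact ⟨(u ^ j.1 * ev g w)⁻¹, by rw [map_inv, map_mul, inv_eq_iff_mul_eq_one, mul_assoc, e3]⟩
  · have a := act [0]
    have e2 := congrArg (Orth.B Q (R (0, 6) - R (5, 6))) e
    rw [show ev g [0] = u from mul_one _] at a
    rw [a, a, a, ← hE] at e2
    simp only [map_sub, map_add, map_smul] at e2
    rw [hE 0 5, hE _ (ev π [0] (ev π [0] (ev π [0] 1))), hE _ (ev π [0] (ev π [0] 1)), hE _ (ev π [0] 1), hE 0 1,
      gram, gram, gram, gram] at e2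
    exact rt.c0 (by simpa (disch := decide +kernel) [if_neg] using e2)

open Matrix
open scoped MatrixGroups

variable {H P : Subgroup (GL (Fin 2 ⊕ Fin 2) F)}

theorem no_A5 (h2 : (2 : F) ≠ 0) (hH : Geo.IsMaximalIn (spGL 2 F) H) (hc : Geo.IsResidualCore H P)
    (e : (P ⧸ (Geo.scalars (Fin 2 ⊕ Fin 2) F).subgroupOf P) ≃* alternatingGroup (Fin 5)) : False :=
  let ⟨_, _, C, h⟩ := bridge h2 hH hc e
  no5 C h

theorem no_A6_seven (h7 : (7 : F) = 0) (hH : Geo.IsMaximalIn (spGL 2 F) H) (hc : Geo.IsResidualCore H P)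
    (e : (P ⧸ (Geo.scalars (Fin 2 ⊕ Fin 2) F).subgroupOf P) ≃* alternatingGroup (Fin 6)) : False :=
  let ⟨_, _, C, h⟩ := bridge (fun e => one_ne_zero (α := F) (by linear_combination h7 - 3 * e)) hH hc e
  no6 h7 C h

theorem no_L27 (h7 : (7 : F) = 0) (hsq : ¬ IsSquare (-1 : F)) (hH : Geo.IsMaximalIn (spGL 2 F) H)
    (hc : Geo.IsResidualCore H P) {K : Type*} [Field K] [Fintype K] (hK : Fintype.card K = 7)
    (e : (P ⧸ (Geo.scalars (Fin 2 ⊕ Fin 2) F).subgroupOf P) ≃* PSL(2, K)) : False := by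
  obtain ⟨H', κ, C, h⟩ := bridge (fun e => one_ne_zero (α := F) (by linear_combination h7 - 3 * e)) hH hc e
  let φ := ZMod.ringEquivOfPrime K (by decide) hK
  obtain ⟨ρ, hρ⟩ : ∃ ρ : S7 →* SL(2, K), ∀ x, (ρ x : Matrix _ _ K) = !![φ x.a, φ x.b; φ x.c, φ x.d] :=
    ⟨MonoidHom.mk' (fun x => ⟨!![φ x.a, φ x.b; φ x.c, φ x.d], by
      rw [det_fin_two_of, ← map_mul, ← map_mul, ← map_sub, x.det, map_one]⟩) fun x y => Subtype.ext (by
        change _ = !![_, _; _, _] * !![_, _; _, _]; simp [S7.mul_def]), fun _ => rfl⟩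
  have h1 : ∀ x, (κ.comp ((QuotientGroup.mk' _).comp ρ)) x = 1 ↔ S7.E x 1 := fun x => by
    simp only [MonoidHom.comp_apply, map_eq_one_iff _ h, QuotientGroup.mk'_apply, QuotientGroup.eq_one_iff,
      Matrix.SpecialLinearGroup.mem_center_iff, Fintype.card_fin, S7.E, mul_one, hρ]
    simp [← Matrix.ext_iff, Fin.forall_fin_two, S7.ext_iff, S7.one_def, eq_comm (b := φ _), ← φ.eq_symm_apply,
      or_and_right, exists_or, and_assoc]
  refine no7 h7 hsq (κ := κ.comp ((QuotientGroup.mk' _).comp ρ)) (H := H') (B := B0 2 F)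
    (Q := Q0 F) (ι := ι0 F) ?_ fun x y => ?_
  · convert C using 1
    refine le_antisymm (by rintro _ ⟨x, rfl⟩; exact ⟨_, rfl⟩) ?_
    rintro _ ⟨x, rfl⟩
    obtain ⟨x, rfl⟩ := QuotientGroup.mk_surjective x
    refine ⟨⟨φ.symm (x 0 0), φ.symm (x 0 1), φ.symm (x 1 0), φ.symm (x 1 1), φ.injective (by
      simpa using (det_fin_two x.1).symm.trans x.2)⟩, congrArg (fun x : SL(2, K) => κ x) (Subtype.ext ?_)⟩
    simpa [hρ] using (eta_fin_two x.1).symm
  · rw [← mul_inv_eq_one, ← map_inv, ← map_mul, h1]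
    simp [S7.E, mul_inv_eq_iff_eq_mul]

theorem no_psl [Fintype F] (h2 : (2 : F) ≠ 0) (hH : Geo.IsMaximalIn (spGL 2 F) H) (hc : Geo.IsResidualCore H P)
    (e : (P ⧸ (Geo.scalars (Fin 2 ⊕ Fin 2) F).subgroupOf P) ≃* PSL(2, F)) :
    Fintype.card F ≠ 5 ∧ Fintype.card F ≠ 7 := by
  refine ⟨fun h => ?_, fun h => no_L27 (by simpa [h] using FiniteField.cast_card_eq_zero F)
    (by simp [FiniteField.isSquare_neg_one_iff, h]) hH hc h e⟩
  obtain ⟨M, h1, h3, ⟨e'⟩⟩ := H3.exists_A5 h2 ⟨0, by simpa [h] using FiniteField.cast_card_eq_zero F⟩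
  have h4 := H3.card_Lsub h2
  rw [Nat.card_eq_fintype_card (α := F), h] at h4
  exact no_A5 h2 hH hc (e.trans ((H3.pslEquiv F).trans
    ((MulEquiv.subgroupCongr (Subgroup.eq_of_le_of_card_ge h1 (by omega)).symm).trans e')))

/-- the form used in the final statement -/
theorem psl_gt [Fintype F] (h2 : (2 : F) ≠ 0) (hH : Geo.IsMaximalIn (spGL 2 F) H) (hc : Geo.IsResidualCore H P)
    (e : (P ⧸ (Geo.scalars (Fin 2 ⊕ Fin 2) F).subgroupOf P) ≃* PSL(2, F)) {p : ℕ} [CharP F p] (hp : 5 ≤ p) :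
    7 < Fintype.card F := by
  obtain ⟨h5, h7⟩ := no_psl h2 hH hc e
  obtain ⟨n, hp', hn⟩ := FiniteField.card F p
  have h1 : p ∣ Fintype.card F := hn ▸ dvd_pow_self p n.ne_zero
  have h3 := Nat.le_of_dvd Fintype.card_pos h1
  by_contra! h
  rw [show Fintype.card F = 6 by omega] at h1 h3
  interval_cases p
  · omega
  · exact absurd hp' (by decide)

end Cfsg.Agent.H5.S4
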